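import Groth.Agent.ArtFunLib.Hull.Prorep
import Groth.Agent.ArtFunLib.ObsBound
import Groth.Agent.ArtFunLib.ObsHR
import Groth.Agent.ArtFunLib.Completion
import Groth.Agent.S0548
import Groth.Agent.S12644
import Groth.Agent.PSLib.Regular

/-! A Noetherian local ring pro-representing a functor: tangent space, and regularity when smooth. -/

set_option autoImplicit false
set_option backward.isDefEq.respectTransparency false
set_option backward.isDefEq.respectTransparency.types false

universe u v

open CategoryTheory ArtFun ArtFun.Art IsLocalRing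

noncomputable section

namespace Groth.Agent.H9HilbLink

open Groth.Agent.ArtFunLib Groth.Agent.ArtFunLib.Hull

variable {k : Type u} [Field k] {S : Type u} [CommRing S] [IsLocalRing S] [Algebra k S] (res : S →ₐ[k] k)

theorem res_surjective : Function.Surjective res := fun c => ⟨algebraMap k S c, res.commutes c⟩

theorem mem_ker_iff (a : S) : res a = 0 ↔ a ∈ maximalIdeal S := by
  rw [← IsLocalRing.eq_maximalIdeal (Hull.ker_isMaximal res (res_surjective res)), RingHom.mem_ker]

theorem residue_eq (a : S) : algebraMap k (ResidueField S) (res a) = residue S a := by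
  rw [IsScalarTower.algebraMap_apply k S (ResidueField S)]
  refine Ideal.Quotient.eq.2 ((mem_ker_iff res _).1 ?_)
  rw [map_sub, AlgHom.commutes]
  exact sub_self _

theorem residue_bijective (res : S →ₐ[k] k) : Function.Bijective (algebraMap k (ResidueField S)) :=
  ⟨RingHom.injective _, fun y => by
    obtain ⟨a, rfl⟩ := residue_surjective y
    exact ⟨res a, residue_eq res a⟩⟩

theorem finrank_cotangent_eq (res : S →ₐ[k] k) :
    Module.finrank (ResidueField S) (CotangentSpace S) = Module.finrank k (CotangentSpace S) := by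
  haveI : IsScalarTower k (ResidueField S) (CotangentSpace S) := IsScalarTower.of_algebraMap_smul fun r x => by
    rw [IsScalarTower.algebraMap_apply k S (ResidueField S), algebraMap_smul, algebraMap_smul]
  have h1 : Module.finrank k (ResidueField S) = 1 := by
    rw [← (AlgEquiv.ofBijective (Algebra.ofId k (ResidueField S)) (residue_bijective res)).toLinearEquiv.finrank_eq,
      Module.finrank_self]
  rw [← Module.finrank_mul_finrank k (ResidueField S) (CotangentSpace S), h1, one_mul]

/-- The tangent space of the functor of points is the dual of the cotangent space. -/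
theorem exists_dual [TangentStr (hR S res)] :
    Nonempty (TangentSpace (hR S res) ≃ₗ[k] Module.Dual k (CotangentSpace S)) := by
  have hfst : ∀ (φ : HomSet S res (dual k k)) a, TrivSqZeroExt.fst (φ.1 a) = res a := fun φ a =>
    DFunLike.congr_fun φ.2 a
  let f : HomSet S res (dual k k) → ↥(maximalIdeal S) → k := fun φ x => TrivSqZeroExt.snd (φ.1 x.1)
  have hmul : ∀ (φ : HomSet S res (dual k k)) (a : S), a ∈ maximalIdeal S ^ 2 → TrivSqZeroExt.snd (φ.1 a) = (0 : k) := by
    intro φ a ha
    rw [pow_two] at ha
    refine Submodule.mul_induction_on ha (fun x hx y hy => ?_) fun x y hx hy => ?_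
    · rw [map_mul]
      refine (TrivSqZeroExt.snd_mul (R := k) (M := k) (φ.1 x) (φ.1 y)).trans ?_
      rw [hfst, hfst, (mem_ker_iff res x).2 hx, (mem_ker_iff res y).2 hy]
      simp
    · rw [map_add]
      refine (TrivSqZeroExt.snd_add (R := k) (M := k) (φ.1 x) (φ.1 y)).trans ?_
      rw [hx, hy, add_zero]
  have hsurj := (maximalIdeal S).toCotangent_surjective
  have hwd : ∀ φ x y, (maximalIdeal S).toCotangent x = (maximalIdeal S).toCotangent y → f φ x = f φ y := by
    intro φ x y h
    rw [← sub_eq_zero, ← map_sub, Ideal.toCotangent_eq_zero] at h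
    have := hmul φ _ h
    rw [AddSubgroupClass.coe_sub, map_sub] at this
    exact sub_eq_zero.1 this
  let L : HomSet S res (dual k k) → Module.Dual k (CotangentSpace S) := fun φ =>
    { toFun := fun c => f φ (Function.surjInv hsurj c)
      map_add' := fun c d => by
        refine (hwd φ _ (Function.surjInv hsurj c + Function.surjInv hsurj d) ?_).trans ?_
        · simp [Function.surjInv_eq hsurj]
        · show TrivSqZeroExt.snd (φ.1 (_ + _)) = _
          rw [map_add]; rfl
      map_smul' := fun r c => by
        refine (hwd φ _ (algebraMap k S r • Function.surjInv hsurj c) ?_).trans ?_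
        · rw [(maximalIdeal S).toCotangent.map_smul, Function.surjInv_eq hsurj, Function.surjInv_eq hsurj,
            algebraMap_smul]
        · show TrivSqZeroExt.snd (φ.1 (_ * _)) = _
          rw [map_mul, AlgHom.commutes]
          refine (TrivSqZeroExt.snd_mul (R := k) (M := k) (TrivSqZeroExt.inl r) (φ.1 _)).trans ?_
          simp [f] }
  have hL : ∀ φ x, L φ ((maximalIdeal S).toCotangent x) = f φ x := fun φ x =>
    hwd φ _ _ (Function.surjInv_eq hsurj _)
  let D : TangentSpace (hR S res) →ₗ[k] Module.Dual k (CotangentSpace S) :=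
    { toFun := fun φ => L (TangentSpace.val φ)
      map_add' := fun φ ψ => LinearMap.ext fun c => by
        obtain ⟨x, rfl⟩ := hsurj c
        obtain ⟨z, h₁, h₂⟩ := exists_pair (hR_h0 S res) (hR_heps S res)
          (TangentSpace.val φ) (TangentSpace.val ψ)
        have hadd : φ + ψ = TangentSpace.mk ((hR S res).map plus z) := by
          rw [← tangent_add_eq, h₁, h₂]; rfl
        rw [LinearMap.add_apply, hL, hL, hL, hadd, ← h₁, ← h₂]
        rfl
      map_smul' := fun a φ => LinearMap.ext fun c => by
        obtain ⟨x, rfl⟩ := hsurj c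
        have hsm : a • φ = TangentSpace.mk ((hR S res).map (scale a) (TangentSpace.val φ)) := by
          rw [← tangent_smul_eq]; rfl
        rw [RingHom.id_apply, LinearMap.smul_apply, hL, hL, hsm]
        rfl }
  refine ⟨LinearEquiv.ofBijective D ⟨fun φ ψ h => ?_, fun ℓ => ?_⟩⟩
  · obtain ⟨φ₀, -, hu⟩ := Groth.Agent.S12644.result k S (residue_bijective res).2 (D φ)
    have e : ∀ θ : TangentSpace (hR S res), D θ = D φ → (TangentSpace.val θ).1 = φ₀ := fun θ hθ =>
      hu _ ⟨fun a => (congrArg _ (hfst (TangentSpace.val θ) a)).trans (residue_eq res a), fun x => by rw [← hθ]; exact (hL _ x).symm⟩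
    exact Subtype.ext ((e φ rfl).trans (e ψ h.symm).symm)
  · obtain ⟨φ₀, ⟨h1, h2⟩, -⟩ := Groth.Agent.S12644.result k S (residue_bijective res).2 ℓ
    refine ⟨(⟨φ₀, AlgHom.ext fun a => (residue_bijective res).1 ((h1 a).trans (residue_eq res a).symm)⟩ :
      HomSet S res (dual k k)), LinearMap.ext fun c => ?_⟩
    obtain ⟨x, rfl⟩ := hsurj c
    exact (hL _ x).trans (h2 x)

variable {F : Art k k ⥤ Type v} {ξ : Family S res F}

theorem finrank_cotangent [IsNoetherianRing S] (hξ : IsUniversal ξ) [TangentStr F] :
    Module.finrank (ResidueField S) (CotangentSpace S) = Module.finrank k (TangentSpace F) := by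
  obtain ⟨T⟩ := nonempty_tangentStr (F := hR S res) (hR_h0 S res) (hR_heps S res)
  obtain ⟨e⟩ := exists_dual res
  let Ξ : TangentSpace (hR S res) →ₗ[k] TangentSpace F :=
    { toFun := TangentSpace.ofFamily ξ
      map_add' := fun φ ψ => by
        obtain ⟨z, h₁, h₂⟩ := exists_pair (hR_h0 S res) (hR_heps S res)
          (TangentSpace.val φ) (TangentSpace.val ψ)
        have hadd : φ + ψ = TangentSpace.mk ((hR S res).map plus z) := by
          rw [← tangent_add_eq, h₁, h₂]; rfl
        rw [hadd]
        change TangentSpace.mk (ξ.app _ (HomSet.map plus z)) =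
          TangentSpace.mk (ξ.app _ (TangentSpace.val φ)) + TangentSpace.mk (ξ.app _ (TangentSpace.val ψ))
        refine (congrArg TangentSpace.mk (ξ.natural plus z)).trans ?_
        rw [← h₁, ← h₂, family_natural, family_natural, tangent_add_eq]
      map_smul' := fun a φ => by
        have hsm : a • φ = TangentSpace.mk ((hR S res).map (scale a) (TangentSpace.val φ)) := by
          rw [← tangent_smul_eq]; rfl
        rw [hsm, RingHom.id_apply]
        change TangentSpace.mk (ξ.app _ (HomSet.map (scale a) (TangentSpace.val φ))) =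
          a • TangentSpace.mk (ξ.app _ (TangentSpace.val φ))
        refine (congrArg TangentSpace.mk (ξ.natural (scale a) (TangentSpace.val φ))).trans ?_
        rw [tangent_smul_eq] }
  rw [← (LinearEquiv.ofBijective Ξ (hξ _)).finrank_eq, e.finrank_eq, Subspace.dual_finrank_eq,
    finrank_cotangent_eq res]

/-- A Noetherian local ring pro-representing a smooth functor is regular. -/
theorem isRegularLocalRing [IsNoetherianRing S] (hξ : IsUniversal ξ) (hF : IsSmoothFunctor F) :
    IsRegularLocalRing S := by
  obtain ⟨R, ι, hι, ⟨e⟩, -, -, hex, hu⟩ := Completion.exists_completion'' res (res_surjective res)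
  have hker : RingHom.ker res = maximalIdeal S := IsLocalRing.eq_maximalIdeal (Hull.ker_isMaximal res (res_surjective res))
  rw [hker] at e
  have hS : IsSmoothFunctor (hR S res) := fun B A μ hμ φ => by
    obtain ⟨y, hy⟩ := hF μ hμ (ξ.app A φ)
    obtain ⟨ψ, rfl⟩ := (hξ B).2 y
    exact ⟨ψ, (hξ A).1 ((ξ.natural μ ψ).trans hy)⟩
  have hR : IsSmoothFunctor (hR R.carrier R.res) := fun B A μ hμ φ => by
    let φ' : HomSet R.carrier R.res A := φ
    obtain ⟨ψ, hψ⟩ := hS μ hμ (⟨φ'.1.comp ι, by rw [← AlgHom.comp_assoc, φ'.2, hι]⟩ : HomSet S res A)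
    let ψ' : HomSet S res B := ψ
    obtain ⟨h, hh, hhι⟩ := hex (toCRing B) ψ'.1 ψ'.2
    refine ⟨(⟨h, hh⟩ : HomSet R.carrier R.res B), Subtype.ext ?_⟩
    refine hu (toCRing A) _ _ ?_ φ'.2 ?_
    · show A.res.comp (μ.toAlgHom.comp h) = R.res
      rw [← AlgHom.comp_assoc, μ.res_comp]
      exact hh
    · show (μ.toAlgHom.comp h).comp ι = φ'.1.comp ι
      rw [AlgHom.comp_assoc, hhι]
      exact congrArg Subtype.val hψ
  obtain ⟨n, π, hπ, hπJ⟩ := ObsHR.exists_minimal_presentation R
  haveI := PSLib.isRegularLocalRing k n
  let T : ObsTheory (ArtFun.hR R.carrier R.res) PUnit.{u+1} :=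
    { obs := fun {C' C} p hp u => 0
      obs_eq_zero_iff := fun {C' C} p hp u => iff_of_true rfl (hR p hp.1 u)
      obs_quot := fun {C' C} p hp K hK hKJ hq u => (map_zero _).symm }
  have hreg : IsRegularLocalRing R.carrier := (ObsBound.bounds R.res π hπ hπJ T).2.2.1 (Module.finrank_zero_of_subsingleton)
  exact (Groth.Agent.S0548.result S).2 (IsRegularLocalRing.of_ringEquiv e)

end Groth.Agent.H9HilbLink
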