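import Groth.Agent.H9HilbLink.Hilb
import Groth.Agent.H9HilbLink.Ring
import Groth.Agent.H9Hilb.Normal
import Groth.Agent.H9Hilb.CodimTwo
import Groth.Agent.KFlatLib.Scheme.LocalDevissage
import Groth.Agent.QCoh.OpenSub
import Groth.Agent.QCoh.Ab.MV
import Groth.Agent.PnCoh.Chow.Relative

/-! The local ring of the Hilbert scheme and the normal sheaf. -/

set_option autoImplicit false
set_option backward.isDefEq.respectTransparency false
set_option backward.isDefEq.respectTransparency.types false

universe u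

open CategoryTheory CategoryTheory.Limits AlgebraicGeometry ArtFun ArtFun.Art

noncomputable section

attribute [local instance] HasDerivedCategory.standard

namespace Groth.Agent.H9HilbLink

open Groth.Agent.ArtFunLib

theorem splits_congr {Y : Scheme.{u}} {C C' : Y.Modules} (c : C ≅ C') (h : H9Hilb.Splits C) : H9Hilb.Splits C' := by
  intro E f g w hS hloc
  refine h E f (g ≫ c.inv) (by rw [← Category.assoc, w, zero_comp]) ?_ hloc
  exact ShortComplex.shortExact_of_iso
    (ShortComplex.isoMk (S₁ := ShortComplex.mk f g w) (S₂ := ShortComplex.mk f (g ≫ c.inv) (by rw [← Category.assoc, w, zero_comp]))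
      (Iso.refl _) (Iso.refl _) c.symm (by simp) (by simp)) hS

/-- The conormal extensions of the image of a closed immersion split. -/
theorem splits_image {X Y : Scheme.{u}} (i : X ⟶ Y) [IsClosedImmersion i] [DCoh.HasSheafHom (Omega.conormal i)]
    (h : Subsingleton (Coh.HH X ((DCoh.sheafHom (Omega.conormal i)).obj (Coh.structureModule X)) 1)) :
    H9Hilb.Splits (Omega.conormal i.ker.subschemeι) := by
  have h' := AmpleVan.subsingleton_of_iso ((AmpleVan.sheafHomIso (Omega.conormal i)).app (Coh.structureModule X)) 1 h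
  let t : i.ker.subscheme ⟶ X := inv i.toImage
  have ht : t ≫ i = i.ker.subschemeι := by
    rw [IsIso.inv_comp_eq]
    exact i.toImage_imageι.symm
  have htop : t.opensRange = ⊤ := TopologicalSpace.Opens.ext
    (Set.range_eq_univ.2 (Scheme.homeoOfIso (asIso t)).surjective)
  have h'' := QCoh.subsingleton_HH_restrict t ((SheafHomX.hom (Omega.conormal i)).obj (Coh.structureModule X)) 0
    (htop ▸ PnCoh.Chow.subsingleton_HU_top _ _ h')
  have h3 : Subsingleton (Coh.HH i.ker.subscheme ((SheafHomX.hom ((Scheme.Modules.restrictFunctor t).obj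
      (Omega.conormal i))).obj (Coh.structureModule i.ker.subscheme)) 1) :=
    QCoh.subsingleton_HH_of_iso ((SheafHomX.restrictIso t (Omega.conormal i)).app (Coh.structureModule X) ≪≫
      (SheafHomX.hom ((Scheme.Modules.restrictFunctor t).obj (Omega.conormal i))).mapIso
        (KFlatLib.restrictStructureIso t)) 1 h''
  refine splits_congr ?_ (H9Hilb.splits_of_HH h3)
  refine (Scheme.Modules.restrictFunctorIsoPullback t).app _ ≪≫
    (Scheme.Modules.pullbackComp t i).app (ClSub.idealMod i.ker) ≪≫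
      (Scheme.Modules.pullbackCongr ht).app (ClSub.idealMod i.ker) ≪≫ eqToIso ?_
  rw [Omega.conormal, i.ker.ker_subschemeι]

theorem isRegularClosedImmersion_image {X Y : Scheme.{u}} (i : X ⟶ Y) [IsClosedImmersion i]
    (h : Mor2.IsRegularClosedImmersion i) : Mor2.IsRegularClosedImmersion i.ker.subschemeι := by
  refine ⟨inferInstance, fun z => ?_⟩
  obtain ⟨U, hU, hz, rs, hrs, hI⟩ := h.2 ((inv i.toImage) z)
  refine ⟨U, hU, ?_, rs, hrs, by rw [i.ker.ker_subschemeι]; exact hI⟩
  have e : inv i.toImage ≫ i = i.ker.subschemeι := by rw [IsIso.inv_comp_eq]; exact i.toImage_imageι.symm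
  rw [← e]
  exact hz

variable {k : Type u} [Field k]

theorem finrank_tangent_HH {X Y : Scheme.{u}} [Y.Over (Spec (CommRingCat.of k))] [X.Over (Spec (CommRingCat.of k))]
    (i : X ⟶ Y) [IsClosedImmersion i] (hi : i ≫ Y ↘ Spec (CommRingCat.of k) = X ↘ Spec (CommRingCat.of k))
    [DCoh.HasSheafHom (Omega.conormal i)] [TangentStr (localHilb Y (Y ↘ Spec (CommRingCat.of k)) i.ker)] :
    Module.finrank k (TangentSpace (localHilb Y (Y ↘ Spec (CommRingCat.of k)) i.ker)) =
      Module.finrank k (Coh.HH X ((DCoh.sheafHom (Omega.conormal i)).obj (Coh.structureModule X)) 0) := by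
  obtain ⟨e₁⟩ := H9Hilb.exists_linearEquiv_hom (k := k) (X := Y) (I₀ := i.ker)
  obtain ⟨q⟩ := H9Hilb.nonempty_iso_quotMod i
  obtain ⟨e₂⟩ := H9Hilb.exists_adj_linearEquiv i hi (ClSub.idealMod i.ker) (Coh.structureModule X)
  obtain ⟨e₃⟩ := ExtShX.exists_hom_HH0 (A := k) ((SheafHomX.hom (Omega.conormal i)).obj (Coh.structureModule X))
  let e := ((Groth.Agent.AmpleVan.sheafHomIso (Omega.conormal i)).app (Coh.structureModule X)).symm
  let e₄ : _ ≃ₗ[k] _ := { Canon.HHlin k e.hom 0 with
    invFun := Canon.HHlin k e.inv 0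
    left_inv := fun z => by rw [LinearMap.toFun_eq_coe, Groth.Agent.PnDual.HHlin_comp, e.hom_inv_id, Groth.Agent.PnDual.HHlin_id]
    right_inv := fun z => by rw [LinearMap.toFun_eq_coe, Groth.Agent.PnDual.HHlin_comp, e.inv_hom_id, Groth.Agent.PnDual.HHlin_id] }
  let eq : (ClSub.idealMod i.ker ⟶ ClSub.quotMod i.ker) ≃ₗ[k]
      (ClSub.idealMod i.ker ⟶ (Scheme.Modules.pushforward i).obj (Coh.structureModule X)) :=
    Linear.homCongr k (Iso.refl _) q.symm
  exact ((e₁.trans (eq.trans e₂.symm)).trans (((ExtShX.evLin _ _).symm.trans e₃).trans e₄)).finrank_eq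

variable {X Y : Scheme.{u}} (y : Y ⟶ Spec (CommRingCat.of k)) [IsProper y]
  {H : Over (Spec (CommRingCat.of k))} {Z : FGA.HilbSet y H} (hH : FGA.HilbRepresentedBy y H Z)
  (i : X ⟶ Y) [IsClosedImmersion i] (g : Over.mk (𝟙 (Spec (CommRingCat.of k))) ⟶ H)
  (hg : FGA.hilbPull y g Z.1 = i.ker.comap (pullback.fst y (Over.mk (𝟙 (Spec (CommRingCat.of k)))).hom))

include hH hg

theorem finrank_cotangent_hilb [X.Over (Spec (CommRingCat.of k))] (hi : i ≫ y = X ↘ Spec (CommRingCat.of k))
    [DCoh.HasSheafHom (Omega.conormal i)] :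
    Module.finrank (IsLocalRing.ResidueField (H.left.presheaf.stalk (g.left.base (IsLocalRing.closedPoint k))))
        (IsLocalRing.CotangentSpace (H.left.presheaf.stalk (g.left.base (IsLocalRing.closedPoint k)))) =
      Module.finrank k (Coh.HH X ((DCoh.sheafHom (Omega.conormal i)).obj (Coh.structureModule X)) 0) := by
  let _ : Y.Over (Spec (CommRingCat.of k)) := ⟨y⟩
  haveI : IsLocallyNoetherian H.left := hH.1
  letI := stalkAlg H.hom g.left
  obtain ⟨ξ, hξ⟩ := exists_universal_family hH i.ker g hg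
  obtain ⟨T⟩ := nonempty_tangentStr (F := localHilb Y y i.ker) H9Hilb.h0_localHilb
    (fun _ _ _ _ h => H9Hilb.bijective_cmp h (Art.dual k k).res_surjective)
  let _ : TangentStr (localHilb Y (Y ↘ Spec (CommRingCat.of k)) i.ker) := T
  exact (finrank_cotangent _ hξ).trans (finrank_tangent_HH (k := k) i hi)

theorem isRegularLocalRing_hilb [DCoh.HasSheafHom (Omega.conormal i)]
    (hll : H9Hilb.LocLifts y i.ker)
    (h1 : Subsingleton (Coh.HH X ((DCoh.sheafHom (Omega.conormal i)).obj (Coh.structureModule X)) 1)) :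
    IsRegularLocalRing (H.left.presheaf.stalk (g.left.base (IsLocalRing.closedPoint k))) := by
  haveI : IsLocallyNoetherian H.left := hH.1
  letI := stalkAlg H.hom g.left
  obtain ⟨ξ, hξ⟩ := exists_universal_family hH i.ker g hg
  exact isRegularLocalRing _ hξ (H9Hilb.isSmooth_of_locLifts hll (splits_image i h1))

end Groth.Agent.H9HilbLink
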