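import Groth.Agent.H9HilbLink.Main
import Groth.Agent.H9Hilb.ObsTheory
import Groth.Agent.QCoh.PushLin
import Groth.Agent.SheafHomX.Coherent
import Groth.Agent.PPSheaf.GrCoh
import Groth.Agent.ZClosLib.CohDescent
import Groth.Agent.ExtShX.DualX
import Groth.Agent.CILib.Basic
import Groth.Agent.S0002

/-! Obstruction spaces of the local Hilbert functor in terms of a closed immersion. -/

set_option autoImplicit false
set_option backward.isDefEq.respectTransparency false
set_option backward.isDefEq.respectTransparency.types false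

universe u

open CategoryTheory CategoryTheory.Limits AlgebraicGeometry ArtFun ArtFun.Art

noncomputable section

attribute [local instance] HasDerivedCategory.standard

namespace Groth.Agent.H9HilbLink

open Groth.Agent.ArtFunLib

variable {k : Type u} [Field k]

theorem isIso_unit_of_iso {X Z : Scheme.{u}} (s : Z ⟶ X) [IsIso s] (M : X.Modules) :
    IsIso ((Scheme.Modules.restrictAdjunction s).unit.app M) :=
  Scheme.Modules.Hom.isIso_iff_isIso_app.mpr fun U => by
    rw [Scheme.Modules.restrictAdjunction_unit_app_app]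
    have e : s ''ᵁ s ⁻¹ᵁ U = U := by
      rw [Scheme.Hom.image_preimage_eq_opensRange_inf]
      exact inf_eq_right.2 (fun z _ => (Scheme.homeoOfIso (asIso s)).surjective z)
    rw [show (homOfLE (s.image_preimage_le U)) = eqToHom e from Subsingleton.elim _ _]
    infer_instance

/-- The obstruction space of the image of a closed immersion. -/
theorem nonempty_obSpace {X Y : Scheme.{u}} [Y.Over (Spec (CommRingCat.of k))] [X.Over (Spec (CommRingCat.of k))]
    [IsLocallyNoetherian Y] (i : X ⟶ Y) [IsClosedImmersion i]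
    (hi : i ≫ Y ↘ Spec (CommRingCat.of k) = X ↘ Spec (CommRingCat.of k))
    [DCoh.HasSheafHom (Omega.conormal i)]
    [i.ker.subscheme.Over (Spec (CommRingCat.of k))]
    (hY : i.ker.subscheme ↘ Spec (CommRingCat.of k) = i.ker.subschemeι ≫ Y ↘ Spec (CommRingCat.of k)) :
    Nonempty (H9Hilb.ObSpace i.ker ≃ₗ[k]
      Coh.HH X ((DCoh.sheafHom (Omega.conormal i)).obj (Coh.structureModule X)) 1) := by
  let s : i.ker.subscheme ⟶ X := inv i.toImage
  have hs : s ≫ i = i.ker.subschemeι := by
    rw [IsIso.inv_comp_eq]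
    exact i.toImage_imageι.symm
  have hsk : s ≫ X ↘ Spec (CommRingCat.of k) = i.ker.subscheme ↘ Spec (CommRingCat.of k) := by
    rw [hY, ← hi, ← Category.assoc, hs]
  haveI : IsLocallyNoetherian i.ker.subscheme := LocallyOfFiniteType.isLocallyNoetherian i.ker.subschemeι
  let R := Scheme.Modules.restrictFunctor s
  let eC : R.obj (Omega.conormal i) ≅ H9Hilb.Co i.ker :=
    (Scheme.Modules.restrictFunctorIsoPullback s).app _ ≪≫
      (Scheme.Modules.pullbackComp s i).app (ClSub.idealMod i.ker) ≪≫
      (Scheme.Modules.pullbackCongr hs).app (ClSub.idealMod i.ker)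
  have hCo : Coh.IsCoh (H9Hilb.Co i.ker) :=
    ZClosLib.isCoh_pullback _ (PPSheaf.GrCoh.isCoh_idealMod _ fun U => by
      haveI : IsNoetherianRing Γ(Y, U.1) := IsLocallyNoetherian.component_noetherian U
      exact IsNoetherian.noetherian _)
  let M := (SheafHomX.hom (Omega.conormal i)).obj (Coh.structureModule X)
  let eM : R.obj M ≅ (SheafHomX.hom (H9Hilb.Co i.ker)).obj (Coh.structureModule i.ker.subscheme) :=
    (SheafHomX.restrictIso s (Omega.conormal i)).app (Coh.structureModule X) ≪≫
      (SheafHomX.hom (R.obj (Omega.conormal i))).mapIso (KFlatLib.restrictStructureIso s) ≪≫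
      { hom := (SheafHomX.homMap eC.inv).app (Coh.structureModule i.ker.subscheme)
        inv := (SheafHomX.homMap eC.hom).app (Coh.structureModule i.ker.subscheme)
        hom_inv_id := by rw [← SheafHomX.homMap_comp, eC.hom_inv_id, SheafHomX.homMap_id]
        inv_hom_id := by rw [← SheafHomX.homMap_comp, eC.inv_hom_id, SheafHomX.homMap_id] }
  haveI := isIso_unit_of_iso s M
  obtain ⟨e₁⟩ := ExtShX.nonempty_HH_equiv_of_iso (A := k) eM.symm 1
  obtain ⟨e₂⟩ := QCoh.HH_push_linear s (Coh.toGlobal (X ↘ Spec (CommRingCat.of k)))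
    (Coh.toGlobal (i.ker.subscheme ↘ Spec (CommRingCat.of k))) (fun a => by rw [← hsk]; rfl)
    (M := R.obj M) ((QCoh.isQCoh_iff_iso eM).2 (SheafHomX.isCoh_hom hCo QCoh.isCoh_structureModule').1) 1
  obtain ⟨e₃⟩ := ExtShX.nonempty_HH_equiv_of_iso (A := k)
    ((asIso ((Scheme.Modules.restrictAdjunction s).unit.app M)).symm ≪≫
      ((AmpleVan.sheafHomIso (Omega.conormal i)).app (Coh.structureModule X)).symm) 1
  exact ⟨(e₁.trans e₂).trans e₃⟩

open IsLocalRing in
/-- The bounds for a Noetherian local ring pro-representing a functor with an obstruction theory. -/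
theorem bounds_of_universal {S : Type u} [CommRing S] [IsLocalRing S] [IsNoetherianRing S] [Algebra k S]
    (res : S →ₐ[k] k) {F : Art k k ⥤ Type u} {ξ : Family S res F} (hξ : IsUniversal ξ) [TangentStr F]
    {W : Type u} [AddCommGroup W] [Module k W] [Module.Finite k W] (hT : HasObsTheory F W) :
    ringKrullDim S ≤ (Module.finrank k (TangentSpace F) : WithBot ℕ∞) ∧
      (Module.finrank k (TangentSpace F) : WithBot ℕ∞) ≤ ringKrullDim S + (Module.finrank k W : WithBot ℕ∞) ∧
      (ringKrullDim S + (Module.finrank k W : WithBot ℕ∞) = (Module.finrank k (TangentSpace F) : WithBot ℕ∞) →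
        Pi1.IsCompleteIntersection S) := by
  obtain ⟨T⟩ := hT
  obtain ⟨R, ι, hι, ⟨e⟩, -, -, hex, hu⟩ := Completion.exists_completion'' res (res_surjective res)
  have hker : RingHom.ker res = maximalIdeal S :=
    IsLocalRing.eq_maximalIdeal (Hull.ker_isMaximal res (res_surjective res))
  rw [hker] at e
  let η : Family R.carrier R.res F :=
    { app := fun A φ => ξ.app A ⟨φ.1.comp ι, by rw [← AlgHom.comp_assoc, φ.2, hι]⟩
      natural := fun {A B} f φ => by
        rw [← ξ.natural]
        exact congrArg (ξ.app B) (Subtype.ext (AlgHom.comp_assoc _ _ _)) }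
  have hη : IsUniversal η := fun A => by
    refine ⟨fun φ φ' h => Subtype.ext ?_, fun y => ?_⟩
    · exact hu (toCRing A) _ _ φ.2 φ'.2 (congrArg Subtype.val ((hξ A).1 h))
    · obtain ⟨ψ, hψ⟩ := (hξ A).2 y
      obtain ⟨h, hh, hhι⟩ := hex (toCRing A) ψ.1 ψ.2
      exact ⟨⟨h, hh⟩, (congrArg (ξ.app A) (Subtype.ext hhι)).trans hψ⟩
  let T' : ObsTheory (ArtFun.hR R.carrier R.res) W :=
    { obs := fun {C' C} p hp u => T.obs p hp (η.app C u)
      obs_eq_zero_iff := fun {C' C} p hp u => by
        rw [T.obs_eq_zero_iff]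
        constructor
        · rintro ⟨y, hy⟩
          obtain ⟨ψ, rfl⟩ := (hη C').2 y
          exact ⟨ψ, (hη C).1 ((η.natural p ψ).trans hy)⟩
        · rintro ⟨w, hw⟩
          exact ⟨η.app C' w, ((η.natural p w).symm.trans (congrArg (η.app C) hw))⟩
      obs_quot := fun {C' C} p hp K hK hKJ hq u => T.obs_quot p hp K hK hKJ hq (η.app C u) }
  obtain ⟨n, π, hπ, hJ⟩ := ObsHR.exists_minimal_presentation R
  haveI := PSLib.isRegularLocalRing k n
  obtain ⟨hb₁, hb₂, -, hb₄⟩ := ObsBound.bounds R.res π hπ hJ T'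
  have hd : ringKrullDim R.carrier = ringKrullDim S := by
    rw [ringKrullDim_eq_of_ringEquiv e, (Groth.Agent.S19474.result S _ (maximalIdeal.isMaximal S).ne_top).1]
  rw [hd, finrank_cotangent R.res hη] at hb₁ hb₂ hb₄
  refine ⟨hb₁, hb₂, fun h => ?_⟩
  obtain ⟨P, _, _, ψ, s, hψ, hs, hdim⟩ := hb₄ h
  have hci : Synt29.CIKer ψ := ⟨s.card, fun j => (s.equivFin.symm j).1, by
    rw [← hs]
    congr 1
    ext a
    exact ⟨fun ha => ⟨s.equivFin ⟨a, ha⟩, by simp⟩, fun ⟨j, hj⟩ => hj ▸ (s.equivFin.symm j).2⟩, by rw [hd]; exact hdim⟩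
  obtain ⟨rs, hreg, hk⟩ := (Synt29.ciKer_iff_regular ψ hψ).1 hci
  exact ⟨P, inferInstance, inferInstance, rs, fun r hr => by
    haveI := R.isAdicComplete
    exact IsLocalRing.le_maximalIdeal (RingHom.ker_ne_top ψ) (hk ▸ Ideal.subset_span hr), hreg,
    ⟨e.symm.trans ((RingHom.quotientKerEquivOfSurjective hψ).symm.trans (Ideal.quotEquivOfEq hk))⟩⟩

open IsLocalRing in
/-- A coefficient ring of maximal dimension pro-represents a smooth functor. -/
theorem isSmoothFunctor_of_dim (R : CRing k k)
    (h : ringKrullDim R.carrier = (Module.finrank (ResidueField R.carrier) (CotangentSpace R.carrier) : WithBot ℕ∞)) :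
    IsSmoothFunctor (ArtFun.hR R.carrier R.res) := by
  haveI := R.isAdicComplete
  let bs := Module.finBasis (ResidueField R.carrier) (CotangentSpace R.carrier)
  choose b hb using fun i => (maximalIdeal R.carrier).toCotangent_surjective (bs i)
  obtain ⟨π, hπ⟩ := PSLib.exists_algHom (R := k) (maximalIdeal R.carrier) (fun i => (b i).1) fun i => (b i).2
  have hres : Function.Surjective ((residue R.carrier).comp (algebraMap k R.carrier)) := (residue_bijective R.res).2
  have hgen := PSLib.le_span_sup_sq (b := fun i => (b i).1) (fun i => (b i).2) (by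
    rw [show (fun i => (maximalIdeal R.carrier).toCotangent ⟨(b i).1, (b i).2⟩) = bs from funext hb]
    exact bs.span_eq)
  have hsurj := PSLib.surjective_of_span hres π (fun i => by rw [hπ]; exact (b i).2) (by simpa only [hπ] using hgen)
  have hbij := PSLib.bijective_of_surjective k _ π.toRingHom hsurj h
  let e := AlgEquiv.ofBijective π hbij
  intro B A μ hμ φ
  let φ' : HomSet R.carrier R.res A := φ
  obtain ⟨ψ, hψ⟩ := ObsHR.isSmoothFunctor_powerSeries (R.res.comp π) μ hμ
    (⟨φ'.1.comp π, by rw [← AlgHom.comp_assoc, φ'.2]⟩ : HomSet _ (R.res.comp π) A)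
  let ψ' : HomSet _ (R.res.comp π) B := ψ
  refine ⟨(⟨ψ'.1.comp e.symm.toAlgHom, AlgHom.ext fun r => ?_⟩ : HomSet R.carrier R.res B), Subtype.ext (AlgHom.ext fun r => ?_)⟩
  · exact (congr($(ψ'.2) (e.symm r))).trans (congrArg R.res (e.apply_symm_apply r))
  · exact (congr($(congrArg Subtype.val hψ) (e.symm r))).trans (congrArg φ'.1 (e.apply_symm_apply r))

end Groth.Agent.H9HilbLink

namespace Groth.Agent.H9HilbLink

open Groth.Agent.ArtFunLib

variable {k : Type u} [Field k] {X Y : Scheme.{u}} [Y.Over (Spec (CommRingCat.of k))]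
  [X.Over (Spec (CommRingCat.of k))] [IsLocallyNoetherian Y]
  (i : X ⟶ Y) [IsClosedImmersion i] (hi : i ≫ Y ↘ Spec (CommRingCat.of k) = X ↘ Spec (CommRingCat.of k))
  [DCoh.HasSheafHom (Omega.conormal i)]

include hi

theorem hasObsTheory_HH (hll : H9Hilb.LocLifts (Y ↘ Spec (CommRingCat.of k)) i.ker) :
    HasObsTheory (localHilb Y (Y ↘ Spec (CommRingCat.of k)) i.ker)
      (Coh.HH X ((DCoh.sheafHom (Omega.conormal i)).obj (Coh.structureModule X)) 1) := by
  let _ : i.ker.subscheme.Over (Spec (CommRingCat.of k)) := ⟨i.ker.subschemeι ≫ Y ↘ Spec (CommRingCat.of k)⟩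
  obtain ⟨e⟩ := nonempty_obSpace i hi rfl
  exact ObsHR.hasObsTheory_congr e (H9Hilb.exists_obsTheory rfl hll)

theorem finite_HH_normal [IsProper (X ↘ Spec (CommRingCat.of k))] (n : ℕ) :
    Module.Finite k (Coh.HH X ((DCoh.sheafHom (Omega.conormal i)).obj (Coh.structureModule X)) n) := by
  haveI : IsLocallyNoetherian X := LocallyOfFiniteType.isLocallyNoetherian i
  have hC : Coh.IsCoh (Omega.conormal i) :=
    ZClosLib.isCoh_pullback _ (PPSheaf.GrCoh.isCoh_idealMod _ fun U => by
      haveI : IsNoetherianRing Γ(Y, U.1) := IsLocallyNoetherian.component_noetherian U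
      exact IsNoetherian.noetherian _)
  haveI := Groth.Agent.S0002.result k X _ (SheafHomX.isCoh_hom hC QCoh.isCoh_structureModule') n
  obtain ⟨e⟩ := ExtShX.nonempty_HH_equiv_of_iso (A := k)
    ((AmpleVan.sheafHomIso (Omega.conormal i)).app (Coh.structureModule X)).symm n
  exact Module.Finite.equiv e

end Groth.Agent.H9HilbLink
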