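import Groth.Agent.ArtFunLib.LocalFunctor
import Mathlib.AlgebraicGeometry.Stalk

/-! The functor of Artinian points at a rational point and the local ring of that point. -/

set_option autoImplicit false
set_option backward.isDefEq.respectTransparency false
set_option backward.isDefEq.respectTransparency.types false

universe u

open CategoryTheory AlgebraicGeometry ArtFun

noncomputable section

namespace Groth.Agent.H9HilbLink

variable {k : Type u} [Field k] {M : Scheme.{u}} (m : M ⟶ Spec (CommRingCat.of k))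
  (x₀ : Spec (CommRingCat.of k) ⟶ M)

/-- The image of the point. -/
abbrev pt : M := x₀ (IsLocalRing.closedPoint k)

/-- The scalars of the local ring. -/
def stalkStr : CommRingCat.of k ⟶ M.presheaf.stalk (pt x₀) :=
  Spec.preimage (M.fromSpecStalk (pt x₀) ≫ m)

/-- The local ring as an algebra over the field. -/
@[implicit_reducible]
def stalkAlg : Algebra k (M.presheaf.stalk (pt x₀)) := (stalkStr m x₀).hom.toAlgebra

/-- The value at the point. -/
def stalkRes : M.presheaf.stalk (pt x₀) ⟶ CommRingCat.of k := Scheme.stalkClosedPointTo x₀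

theorem SpecMap_stalkRes : Spec.map (stalkRes x₀) ≫ M.fromSpecStalk (pt x₀) = x₀ :=
  Scheme.Spec_stalkClosedPointTo_fromSpecStalk x₀

variable (hx₀ : x₀ ≫ m = 𝟙 _)

include hx₀ in
theorem str_res : stalkStr m x₀ ≫ stalkRes x₀ = 𝟙 _ := Spec.map_injective (by
  rw [Spec.map_comp, stalkStr, Spec.map_preimage, ← Category.assoc, SpecMap_stalkRes, hx₀, Spec.map_id])

/-- The augmentation. -/
def resAlg : letI := stalkAlg m x₀; M.presheaf.stalk (pt x₀) →ₐ[k] k :=
  letI := stalkAlg m x₀
  { (stalkRes x₀).hom with commutes' := fun c => congr($(str_res m x₀ hx₀) c) }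

/-- The condition for an Artinian point at the point. -/
def AtPt (A : Art k k) (g : Art.spec A ⟶ M) : Prop :=
  g ≫ m = Art.specMap (Art.ofBase A) ∧ Art.specRes A ≫ g = x₀

theorem exists_equiv : letI := stalkAlg m x₀
    ∃ e : ∀ A : Art k k, HomSet (M.presheaf.stalk (pt x₀)) (resAlg m x₀ hx₀) A ≃ {g : Art.spec A ⟶ M // AtPt m x₀ A g},
      ∀ (A B : Art k k) (h : A ⟶ B) (φ : HomSet (M.presheaf.stalk (pt x₀)) (resAlg m x₀ hx₀) A),
        ((e B) (HomSet.map h φ)).1 = Art.specMap h ≫ ((e A) φ).1 := by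
  letI := stalkAlg m x₀
  let S := M.presheaf.stalk (pt x₀)
  let mk : ∀ A : Art k k, HomSet S (resAlg m x₀ hx₀) A → (Art.spec A ⟶ M) := fun A φ =>
    Spec.map (CommRingCat.ofHom φ.1.toRingHom) ≫ M.fromSpecStalk (pt x₀)
  have hmk : ∀ A φ, AtPt m x₀ A (mk A φ) := fun A φ => by
    constructor
    · show (Spec.map _ ≫ _) ≫ m = _
      rw [Category.assoc, ← Spec.map_preimage (M.fromSpecStalk (pt x₀) ≫ m), ← Spec.map_comp]
      exact congrArg Spec.map (CommRingCat.hom_ext (RingHom.ext fun c => φ.1.commutes c))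
    · show Spec.map _ ≫ Spec.map _ ≫ _ = x₀
      rw [← Spec.map_comp_assoc]
      refine Eq.trans ?_ (SpecMap_stalkRes x₀)
      exact congrArg (fun f => Spec.map f ≫ M.fromSpecStalk (pt x₀))
        (CommRingCat.hom_ext (RingHom.ext fun s => congr($(φ.2) s)))
  have hbij : ∀ A, Function.Bijective (fun φ => (⟨mk A φ, hmk A φ⟩ : {g // AtPt m x₀ A g})) := by
    intro A
    refine ⟨fun φ₁ φ₂ h => Subtype.ext (AlgHom.ext fun s => ?_), fun ⟨g, hg₁, hg₂⟩ => ?_⟩
    · have h1 : mk A φ₁ = mk A φ₂ := congrArg Subtype.val h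
      exact congr($(Spec.map_injective ((cancel_mono (M.fromSpecStalk (pt x₀))).1 h1)) s)
    · have hpt : g (IsLocalRing.closedPoint A) = pt x₀ := by
        have : Art.specRes A (IsLocalRing.closedPoint k) = IsLocalRing.closedPoint A :=
          (ArtFunLib.LocalFunctor.subsingleton_spec A).elim _ _
        rw [← this]
        exact congr($hg₂ (IsLocalRing.closedPoint k))
      let f : S ⟶ CommRingCat.of A :=
        (M.presheaf.stalkSpecializes (specializes_of_eq hpt)) ≫ Scheme.stalkClosedPointTo g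
      have hf : Spec.map f ≫ M.fromSpecStalk (pt x₀) = g := by
        rw [Spec.map_comp, Category.assoc, Scheme.SpecMap_stalkSpecializes_fromSpecStalk,
          Scheme.Spec_stalkClosedPointTo_fromSpecStalk]
      have hsf : stalkStr m x₀ ≫ f = CommRingCat.ofHom (Art.ofBase A).toAlgHom.toRingHom := Spec.map_injective (by
        rw [Spec.map_comp, stalkStr, Spec.map_preimage, ← Category.assoc, hf, hg₁])
      have hfr : f ≫ CommRingCat.ofHom A.res.toRingHom = stalkRes x₀ := Spec.map_injective
        ((cancel_mono (M.fromSpecStalk (pt x₀))).1 (by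
          rw [Spec.map_comp, Category.assoc, hf, SpecMap_stalkRes]
          exact hg₂))
      exact ⟨⟨{ f.hom with commutes' := fun c => congr($hsf c) }, AlgHom.ext fun s => congr($hfr s)⟩, Subtype.ext hf⟩
  refine ⟨fun A => Equiv.ofBijective _ (hbij A), fun A B h φ => ?_⟩
  show Spec.map _ ≫ _ = Art.specMap h ≫ Spec.map _ ≫ _
  rw [← Spec.map_comp_assoc]
  rfl

end Groth.Agent.H9HilbLink
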